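import Cfsg.Agent.SporB.Fi24.K0.Check0
import Cfsg.Agent.Lib.CosetEnum.Local

set_option autoImplicit false
set_option maxRecDepth 100000

namespace Cfsg.Agent.CosetEnum.Fi24.K0

theorem dok0 : allRange sys.checkDef 0 1708 = true := by decide +kernel
def dchunks : List ℕ := [1708]
def fchunks : List (ℕ × ℕ) := [(65, fv0), (93, fv1), (85, fv2), (71, fv3), (84, fv4), (63, fv5), (71, fv6), (64, fv7), (60, fv8), (69, fv9), (72, fv10), (100, fv11), (100, fv12), (92, fv13), (100, fv14), (100, fv15), (100, fv16), (99, fv17), (98, fv18), (100, fv19), (85, fv20), (78, fv21), (65, fv22), (95, fv23), (62, fv24), (77, fv25), (88, fv26), (98, fv27), (84, fv28), (95, fv29), (96, fv30), (94, fv31), (96, fv32), (95, fv33), (95, fv34), (95, fv35), (90, fv36), (78, fv37)]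
theorem defsOK : sys.DefsOK 0 dchunks := ⟨dok0, trivial⟩
theorem factsOK : sys.FactsOK 1708 fchunks := ⟨fok0, fok1, fok2, fok3, fok4, fok5, fok6, fok7, fok8, fok9, fok10, fok11, fok12, fok13, fok14, fok15, fok16, fok17, fok18, fok19, fok20, fok21, fok22, fok23, fok24, fok25, fok26, fok27, fok28, fok29, fok30, fok31, fok32, fok33, fok34, fok35, fok36, fok37, trivial⟩
theorem rules_ok : sys.rules.all (fun R => R.check sys rels subs) = true := by decide +kernel
theorem inv_ok : allRange (fun l => Nat.beq (sys.inv l) l) 0 (sys.nl + 1) = true := by decide +kernel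
def rchunks : List (ℕ × ℕ) := [(18, rv0), (17, rv1), (17, rv2), (17, rv3), (17, rv4), (17, rv5), (17, rv6)]
theorem rok0 : sys.checkRows 120 4960 0 18 rv0 = true := by decide +kernel
theorem rok1 : sys.checkRows 120 4960 18 17 rv1 = true := by decide +kernel
theorem rok2 : sys.checkRows 120 4960 35 17 rv2 = true := by decide +kernel
theorem rok3 : sys.checkRows 120 4960 52 17 rv3 = true := by decide +kernel
theorem rok4 : sys.checkRows 120 4960 69 17 rv4 = true := by decide +kernel
theorem rok5 : sys.checkRows 120 4960 86 17 rv5 = true := by decide +kernel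
theorem rok6 : sys.checkRows 120 4960 103 17 rv6 = true := by decide +kernel
theorem rowsOK : sys.RowsOK 120 4960 0 rchunks := ⟨rok0, rok1, rok2, rok3, rok4, rok5, rok6, trivial⟩
theorem cert : Cert sys 120 1708 4960 :=
  Cert.of_chunks dchunks fchunks rchunks (by decide) defsOK (by decide +kernel) factsOK (by decide +kernel) rowsOK (by decide +kernel)

end Cfsg.Agent.CosetEnum.Fi24.K0
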