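import Cfsg.Agent.SporB.Fi24.K0.Data

set_option autoImplicit false
set_option maxRecDepth 100000

namespace Cfsg.Agent.CosetEnum.Fi24.K0

theorem fok0 : sys.checkFacts 1708 65 fv0 = true := by decide +kernel
theorem fok1 : sys.checkFacts 1773 93 fv1 = true := by decide +kernel
theorem fok2 : sys.checkFacts 1866 85 fv2 = true := by decide +kernel
theorem fok3 : sys.checkFacts 1951 71 fv3 = true := by decide +kernel
theorem fok4 : sys.checkFacts 2022 84 fv4 = true := by decide +kernel
theorem fok5 : sys.checkFacts 2106 63 fv5 = true := by decide +kernel
theorem fok6 : sys.checkFacts 2169 71 fv6 = true := by decide +kernel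
theorem fok7 : sys.checkFacts 2240 64 fv7 = true := by decide +kernel
theorem fok8 : sys.checkFacts 2304 60 fv8 = true := by decide +kernel
theorem fok9 : sys.checkFacts 2364 69 fv9 = true := by decide +kernel
theorem fok10 : sys.checkFacts 2433 72 fv10 = true := by decide +kernel
theorem fok11 : sys.checkFacts 2505 100 fv11 = true := by decide +kernel
theorem fok12 : sys.checkFacts 2605 100 fv12 = true := by decide +kernel
theorem fok13 : sys.checkFacts 2705 92 fv13 = true := by decide +kernel
theorem fok14 : sys.checkFacts 2797 100 fv14 = true := by decide +kernel
theorem fok15 : sys.checkFacts 2897 100 fv15 = true := by decide +kernel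
theorem fok16 : sys.checkFacts 2997 100 fv16 = true := by decide +kernel
theorem fok17 : sys.checkFacts 3097 99 fv17 = true := by decide +kernel
theorem fok18 : sys.checkFacts 3196 98 fv18 = true := by decide +kernel
theorem fok19 : sys.checkFacts 3294 100 fv19 = true := by decide +kernel
theorem fok20 : sys.checkFacts 3394 85 fv20 = true := by decide +kernel
theorem fok21 : sys.checkFacts 3479 78 fv21 = true := by decide +kernel
theorem fok22 : sys.checkFacts 3557 65 fv22 = true := by decide +kernel
theorem fok23 : sys.checkFacts 3622 95 fv23 = true := by decide +kernel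
theorem fok24 : sys.checkFacts 3717 62 fv24 = true := by decide +kernel
theorem fok25 : sys.checkFacts 3779 77 fv25 = true := by decide +kernel
theorem fok26 : sys.checkFacts 3856 88 fv26 = true := by decide +kernel
theorem fok27 : sys.checkFacts 3944 98 fv27 = true := by decide +kernel
theorem fok28 : sys.checkFacts 4042 84 fv28 = true := by decide +kernel
theorem fok29 : sys.checkFacts 4126 95 fv29 = true := by decide +kernel
theorem fok30 : sys.checkFacts 4221 96 fv30 = true := by decide +kernel
theorem fok31 : sys.checkFacts 4317 94 fv31 = true := by decide +kernel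
theorem fok32 : sys.checkFacts 4411 96 fv32 = true := by decide +kernel
theorem fok33 : sys.checkFacts 4507 95 fv33 = true := by decide +kernel
theorem fok34 : sys.checkFacts 4602 95 fv34 = true := by decide +kernel
theorem fok35 : sys.checkFacts 4697 95 fv35 = true := by decide +kernel
theorem fok36 : sys.checkFacts 4792 90 fv36 = true := by decide +kernel
theorem fok37 : sys.checkFacts 4882 78 fv37 = true := by decide +kernel

end Cfsg.Agent.CosetEnum.Fi24.K0
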